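import Mathlib
import Cfsg.Prelude.Def_Characters
import Cfsg.Agent.Lib.Characters.Induction
import Cfsg.Agent.Lib.Recognition.PSU33.Data

/-!
Inner products of the characters induced from linear characters of the Borel subgroup.
-/

open scoped ComplexConjugate

namespace CfsgLib.Recognition.PSU33

/-- The linear characters of the Borel group. -/
noncomputable def lam (l : ZMod 8) : BB →* ℂ where
  toFun b := ZMod.stdAddChar (l * b.right.toAdd)
  map_one' := by simp
  map_mul' a b := by simp [mul_add, AddChar.map_add_eq_mul]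

theorem lam_apply (l : ZMod 8) (b : BB) : lam l b = ZMod.stdAddChar (l * b.right.toAdd) := rfl

theorem conj_stdAddChar (x : ZMod 8) : conj (ZMod.stdAddChar x) = ZMod.stdAddChar (-x) :=
  AddChar.map_neg_eq_conj _ x |>.symm

theorem sum_stdAddChar_mul (a : ZMod 8) :
    ∑ k : Multiplicative (ZMod 8), ZMod.stdAddChar (a * k.toAdd) = if a = 0 then (8 : ℂ) else 0 := by
  rw [Fintype.sum_equiv Multiplicative.toAdd (fun k => ZMod.stdAddChar (a * k.toAdd))
    (fun k => ZMod.stdAddChar (a * k)) fun _ => rfl]
  have h := AddChar.sum_mulShift a (ZMod.isPrimitive_stdAddChar 8)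
  simp only [mul_comm] at h ⊢
  rw [h]
  split_ifs <;> simp

/-- The model is the product of its two parts, as a type. -/
def bbEquiv : BB ≃ H3 × Multiplicative (ZMod 8) := SemidirectProduct.equivProd

noncomputable instance : Fintype BB := Fintype.ofEquiv _ bbEquiv.symm

theorem sum_lam_mul_conj (l m : ZMod 8) :
    ∑ b : BB, lam l b * conj (lam m b) = if l = m then (216 : ℂ) else 0 := by
  rw [Fintype.sum_equiv bbEquiv (fun b => lam l b * conj (lam m b))
    (fun p => ZMod.stdAddChar ((l - m) * p.2.toAdd)) (fun b => by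
      rw [lam_apply, lam_apply, conj_stdAddChar, ← AddChar.map_add_eq_mul, sub_mul, sub_eq_add_neg]
      rfl),
    Fintype.sum_prod_type]
  simp only
  rw [Finset.sum_const, Finset.card_univ, ← Nat.card_eq_fintype_card,
    H3.card_eq, sum_stdAddChar_mul]
  simp only [sub_eq_zero]
  split_ifs <;> norm_num

namespace Data

variable {G : Type*} [Group G] (D : Data G)

/-- The linear characters on the Borel subgroup. -/
noncomputable def θ (l : ZMod 8) : D.B →* ℂ := (lam l).comp D.eB.symm.toMonoidHom

theorem θ_eB (l : ZMod 8) (b : BB) : D.θ l (D.eB b) = lam l b := by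
  simp [θ]

theorem θ_isClassFunction (l : ZMod 8) : Cfsg.IsClassFunction D.B (D.θ l) :=
  CfsgLib.Induction.isClassFunction_of_isCharacter (CfsgLib.Induction.isCharacter_monoidHom _)

variable [Fintype G]

/-- The induced characters. -/
noncomputable def I (l : ZMod 8) : G → ℂ := Cfsg.indFun D.B (D.θ l)

theorem isCharacter_I (l : ZMod 8) : Cfsg.IsCharacter G (D.I l) :=
  CfsgLib.Induction.isCharacter_indFun D.B (CfsgLib.Induction.isCharacter_monoidHom _)

theorem isClassFunction_I (l : ZMod 8) : Cfsg.IsClassFunction G (D.I l) :=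
  CfsgLib.Induction.isClassFunction_indFun D.B _

theorem I_one (l : ZMod 8) : D.I l 1 = 28 := by
  rw [I, CfsgLib.Induction.indFun_one_apply, D.index_B, map_one]
  simp

theorem I_apply (l : ZMod 8) (g : G) :
    D.I l g = ∑ o : Option H3, Cfsg.extendByZero D.B (D.θ l) ((D.rep o)⁻¹ * g * D.rep o) := by
  haveI : Fintype (G ⧸ D.B) := Fintype.ofFinite _
  rw [I, CfsgLib.Induction.indFun_eq_sum_quotient D.B (D.θ_isClassFunction l)]
  symm
  refine Fintype.sum_equiv (Equiv.ofBijective _ D.rep_bijective) _ _ fun o => ?_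
  obtain ⟨h, hh⟩ := QuotientGroup.mk_out_eq_mul D.B (D.rep o)
  rw [Equiv.ofBijective_apply, hh, ← CfsgLib.Induction.extendByZero_conj D.B (D.θ_isClassFunction l) h⁻¹]
  congr 1
  simp only [Subgroup.coe_inv, mul_inv_rev, inv_inv]
  group

omit [Fintype G] in
theorem sum_term_none (l m : ZMod 8) :
    ∑ b : BB, lam l b * conj (Cfsg.extendByZero D.B (D.θ m) ((D.rep none)⁻¹ * D.Φ b * D.rep none)) =
      if l = m then (216 : ℂ) else 0 := by
  rw [← sum_lam_mul_conj l m]
  refine Finset.sum_congr rfl fun b _ => ?_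
  rw [rep, inv_one, one_mul, mul_one, ← D.eB_coe b, CfsgLib.Induction.extendByZero_coe, θ_eB]

omit [Fintype G] in
theorem sum_term_some (l m : ZMod 8) (h : H3) :
    ∑ b : BB, lam l b *
      conj (Cfsg.extendByZero D.B (D.θ m) ((D.rep (some h))⁻¹ * D.Φ b * D.rep (some h))) =
      if l = 5 * m then (8 : ℂ) else 0 := by
  classical
  let g : BB := ⟨h, 1⟩
  rw [← Equiv.sum_comp (MulAut.conj g).toEquiv]
  have hterm : ∀ b : BB, lam l ((MulAut.conj g).toEquiv b) *
      conj (Cfsg.extendByZero D.B (D.θ m)
        ((D.rep (some h))⁻¹ * D.Φ ((MulAut.conj g).toEquiv b) * D.rep (some h))) =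
      if b.left = 1 then (ZMod.stdAddChar ((l - 5 * m) * b.right.toAdd) : ℂ) else 0 := by
    intro b
    have e1 : lam l ((MulAut.conj g).toEquiv b) = lam l b := by
      simp [lam_apply, MulAut.conj_apply, g]
    have e2 : (D.rep (some h))⁻¹ * D.Φ ((MulAut.conj g).toEquiv b) * D.rep (some h) =
        D.w⁻¹ * D.Φ b * D.w := by
      have : D.Φ g = D.ι h := by simp [Φ_apply, g]
      simp only [MulEquiv.toEquiv_eq_coe, EquivLike.coe_coe, MulAut.conj_apply, map_mul, map_inv,
        this, rep]
      group
    rw [e1, e2]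
    by_cases hb : b.left = 1
    · rw [if_pos hb]
      obtain ⟨bl, k⟩ := b
      obtain rfl : bl = 1 := hb
      rw [D.conj_w_Φ, ← D.eB_coe, CfsgLib.Induction.extendByZero_coe, θ_eB, lam_apply, lam_apply,
        conj_stdAddChar, ← AddChar.map_add_eq_mul]
      simp only [toAdd_ofAdd]
      congr 1; ring
    · rw [if_neg hb, CfsgLib.Induction.extendByZero_notMem, map_zero, mul_zero]
      exact fun hm => hb (D.left_eq_one_of_conj_mem hm)
  rw [Finset.sum_congr rfl fun b _ => hterm b,
    Fintype.sum_equiv bbEquiv (fun b : BB =>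
      if b.left = 1 then (ZMod.stdAddChar ((l - 5 * m) * b.right.toAdd) : ℂ) else 0)
      (fun p => if p.1 = 1 then (ZMod.stdAddChar ((l - 5 * m) * p.2.toAdd) : ℂ) else 0) (fun _ => rfl),
    Fintype.sum_prod_type_right]
  simp only [Finset.sum_ite_eq', Finset.mem_univ, if_true]
  rw [sum_stdAddChar_mul]
  simp only [sub_eq_zero]

/-- Inner products of the induced characters. -/
theorem inner_I (l m : ZMod 8) :
    Cfsg.classInner (D.I l) (D.I m) =
      (if l = m then 1 else 0) + (if l = 5 * m then 1 else 0) := by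
  haveI : Fintype D.B := Fintype.ofFinite _
  rw [I, CfsgLib.Induction.classInner_indFun D.B _ (D.isClassFunction_I m), Cfsg.classInner,
    D.card_B, ← Fintype.sum_equiv D.eB.toEquiv
      (fun b : BB => lam l b * conj (D.I m (D.Φ b))) _ (fun b => by
        simp only [MulEquiv.toEquiv_eq_coe, EquivLike.coe_coe, θ_eB, eB_coe])]
  simp only [I_apply, map_sum]
  rw [Finset.sum_congr rfl fun b _ => Finset.mul_sum _ _ _, Finset.sum_comm, Fintype.sum_option]
  simp only [sum_term_none, sum_term_some, Finset.sum_const, Finset.card_univ,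
    ← Nat.card_eq_fintype_card, H3.card_eq]
  split_ifs <;> norm_num

end Data

end CfsgLib.Recognition.PSU33
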