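import Mathlib
import Cfsg.Prelude.Def_Characters
import Cfsg.Agent.Lib.Characters.Clifford
import Cfsg.Agent.Lib.Characters.Values
import Cfsg.Agent.Lib.Recognition.PSU33.Induced

/-!
The shape of a degree of an irreducible character, read off the restriction to `3^{1+2}`.
-/

open scoped ComplexConjugate
open CfsgLib.Characters Cfsg

namespace CfsgLib.Recognition.PSU33

/-- A cube root of unity. -/
noncomputable def ω : AddChar (ZMod 3) ℂ := ZMod.stdAddChar

theorem ω_sum : ω 0 + ω 1 + ω 2 = 0 := by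
  have h := AddChar.sum_mulShift (1 : ZMod 3) (ZMod.isPrimitive_stdAddChar 3)
  simp only [mul_one, one_ne_zero, if_false, Nat.cast_zero] at h
  exact ((Fin.sum_univ_three fun x : ZMod 3 => ω x).symm.trans h : _)

theorem ω_zero : ω 0 = 1 := AddChar.map_zero_eq_one _

theorem conj_ω (x : ZMod 3) : conj (ω x) = ω (-x) :=
  (AddChar.map_neg_eq_conj _ x).symm

/-- The abelian maximal subgroup `⟨u₂, z⟩` of the Heisenberg group. -/
def jA : Multiplicative (ZMod 3 × ZMod 3) →* H3 where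
  toFun p := ⟨0, p.toAdd.1, p.toAdd.2⟩
  map_one' := rfl
  map_mul' p q := by simp [H3.mul_def]

/-- A linear character of the Heisenberg group trivial on the centre. -/
noncomputable def μ : H3 →* ℂ where
  toFun h := ω h.a
  map_one' := ω_zero
  map_mul' g h := by rw [H3.mul_def, AddChar.map_add_eq_mul]

/-- A linear character of the abelian subgroup nontrivial on the centre. -/
noncomputable def ν : Multiplicative (ZMod 3 × ZMod 3) →* ℂ where
  toFun p := ω p.toAdd.2
  map_one' := ω_zero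
  map_mul' p q := by simp [AddChar.map_add_eq_mul]

theorem classInner_hom_nat {K : Type*} [Group K] [Fintype K] {χ : K → ℂ} (h : IsCharacter K χ) (f : K →* ℂ) :
    ∃ n : ℕ, classInner χ f = n :=
  classInner_char_nat h (CfsgLib.Induction.isCharacter_monoidHom f)

theorem sum_zmod_three (f : ZMod 3 → ℂ) : ∑ x, f x = f 0 + f 1 + f 2 :=
  Fin.sum_univ_three f

theorem sum_H3 (f : H3 → ℂ) :
    ∑ h, f h = ∑ a : ZMod 3, ∑ b : ZMod 3, ∑ c : ZMod 3, f ⟨a, b, c⟩ := by
  rw [Fintype.sum_equiv H3.equivProd f (fun p => f ⟨p.1, p.2.1, p.2.2⟩) (fun _ => rfl),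
    Fintype.sum_prod_type]
  exact Finset.sum_congr rfl fun a _ => Fintype.sum_prod_type _

namespace Data

variable {G : Type*} [Group G] (D : Data G)

theorem value_noncentral {χ : G → ℂ} (hχ : IsClassFunction G χ) (g : H3)
    (hg : g.a ≠ 0 ∨ g.b ≠ 0) : χ (D.ι g) = χ (D.ι H3.x1) := by
  obtain ⟨k, h, e⟩ := H3.noncentral_conj g hg
  rw [← e, map_mul, map_mul, map_inv, hχ]
  have := D.conj_t_pow k.val H3.x1
  rw [H3.act, ← this, hχ]

theorem value_z_inv {χ : G → ℂ} (hχ : IsClassFunction G χ) :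
    χ (D.ι H3.z⁻¹) = χ (D.ι H3.z) := by
  rw [← H3.central_conj, H3.act_one, ← D.conj_t, hχ]

variable [Fintype G]

omit [Fintype G] in
/-- The shape of a degree. -/
theorem degree_shape {χ : G → ℂ} (hχ : IsCharacter G χ) :
    ∃ m y x : ℕ, classInner (fun h : H3 => χ (D.ι h)) (fun _ => 1) = (m : ℂ) ∧
      χ 1 = (m + 8 * y + 6 * x : ℕ) ∧ (x = 0 → χ (D.ι H3.z) = χ 1) := by
  have hcl := CfsgLib.Characters.isClassFunction_of_isCharacter hχ
  have hU := CfsgLib.Clifford.isCharacter_pullback hχ D.ι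
  have hA := CfsgLib.Clifford.isCharacter_pullback hU jA
  obtain ⟨m, hm⟩ := classInner_hom_nat hU 1
  obtain ⟨y, hy⟩ := classInner_hom_nat hU μ
  obtain ⟨x, hx⟩ := classInner_hom_nat hA ν
  set d := χ 1 with hd
  set c := χ (D.ι H3.z) with hc
  set e := χ (D.ι H3.x1) with he
  have v0 : χ (D.ι ⟨0, 0, 0⟩) = d := by rw [← H3.one_def, map_one]
  have v1 : χ (D.ι ⟨0, 0, 1⟩) = c := rfl
  have v2 : χ (D.ι ⟨0, 0, 2⟩) = c := D.value_z_inv hcl
  have va : ∀ a b k : ZMod 3, a ≠ 0 → χ (D.ι ⟨a, b, k⟩) = e := fun a b k ha =>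
    D.value_noncentral hcl _ (Or.inl ha)
  have vb : ∀ a b k : ZMod 3, b ≠ 0 → χ (D.ι ⟨a, b, k⟩) = e := fun a b k ha =>
    D.value_noncentral hcl _ (Or.inr ha)
  have n1 : (1 : ZMod 3) ≠ 0 := by decide
  have n2 : (2 : ZMod 3) ≠ 0 := by decide
  have o2 : (-2 : ZMod 3) = 1 := by decide
  have o1 : (-1 : ZMod 3) = 2 := by decide
  have hsum := ω_sum
  rw [ω_zero] at hsum
  have key1 : d + 2 * c + 24 * e = 27 * (m : ℂ) := by
    rw [← hm, classInner, H3.card_eq]
    simp only [sum_H3, sum_zmod_three, MonoidHom.one_apply, map_one, mul_one, v0, v1, v2,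
      va _ _ _ n1, va _ _ _ n2, vb _ _ _ n1, vb _ _ _ n2]
    push_cast; ring
  have key2 : d + 2 * c - 3 * e = 27 * (y : ℂ) := by
    rw [← hy, classInner, H3.card_eq]
    simp only [sum_H3, sum_zmod_three, μ, MonoidHom.coe_mk, OneHom.coe_mk, conj_ω, neg_zero, o1, o2, ω_zero,
      v0, v1, v2, va _ _ _ n1, va _ _ _ n2, vb _ _ _ n1, vb _ _ _ n2]
    push_cast
    linear_combination (-9 * e) * hsum
  have key3 : d - c = 9 * (x : ℂ) := by
    rw [← hx, classInner]
    have hcard : Nat.card (Multiplicative (ZMod 3 × ZMod 3)) = 9 := by simp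
    rw [hcard, Fintype.sum_equiv (Multiplicative.toAdd (α := ZMod 3 × ZMod 3))
      (fun p => (fun q => χ (D.ι (jA q))) p * conj (ν p))
      (fun p => χ (D.ι ⟨0, p.1, p.2⟩) * conj (ω p.2)) (fun _ => rfl), Fintype.sum_prod_type]
    simp only [sum_zmod_three, conj_ω, neg_zero, o1, o2, ω_zero, v0, v1, v2, vb _ _ _ n1, vb _ _ _ n2]
    push_cast
    linear_combination (-c - 2 * e) * hsum
  refine ⟨m, y, x, ?_, ?_, fun h0 => ?_⟩
  · exact hm
  · push_cast
    linear_combination (1 / 27 : ℂ) * key1 + (8 / 27 : ℂ) * key2 + (2 / 3 : ℂ) * key3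
  · subst h0
    simp only [Nat.cast_zero, mul_zero, sub_eq_zero] at key3
    exact key3.symm

/-- An irreducible character with `z` in its kernel is principal. -/
theorem eq_one_of_z (χ : IrrCharacter G) (h : (χ : G → ℂ) (D.ι H3.z) = (χ : G → ℂ) 1) :
    (χ : G → ℂ) = fun _ => 1 := by
  obtain ⟨f, hirr⟩ := χ
  obtain ⟨n, ρ, hρ, rfl⟩ := hirr
  dsimp only at h ⊢
  haveI := hρ
  rw [Representation.char_one] at h
  have hz := (char_eq_degree_iff ρ _).1 h
  have hK := D.normal_eq_top (MonoidHom.ker ρ) inferInstance (MonoidHom.mem_ker.2 hz)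
  have hall : ∀ g, ρ.character g = ρ.character 1 := fun g => by
    have hg : ρ g = 1 := MonoidHom.mem_ker.1 (hK ▸ Subgroup.mem_top g)
    simp [Representation.character, hg]
  have hn := classInner_irr_self (G := G) ⟨n, ρ, hρ, rfl⟩
  obtain ⟨k, hk⟩ : ∃ k : ℕ, ρ.character 1 = k := ⟨_, ρ.char_one⟩
  have h1 : (k : ℂ) * k = 1 := by
    rw [← hn, classInner]
    simp only [hall, hk, Complex.conj_natCast, Finset.sum_const, Finset.card_univ,
      ← Nat.card_eq_fintype_card, nsmul_eq_mul]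
    field_simp
  have hk1 : k = 1 := Nat.eq_one_of_dvd_one ⟨k, by exact_mod_cast h1.symm⟩
  funext g
  rw [hall g, hk, hk1, Nat.cast_one]

end Data

end CfsgLib.Recognition.PSU33
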