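import Mathlib
import Cfsg.Prelude.Def_Characters
import Cfsg.Agent.Lib.Characters.BrauerPerm
import Cfsg.Agent.Lib.Recognition.PSU33.Restriction

/-!
Degrees of some irreducible characters of PSU(3,3).
-/

open scoped ComplexConjugate
open CfsgLib.Characters Cfsg

namespace CfsgLib.Recognition.PSU33

theorem z8_fixed : ∀ l k : ZMod 8, l = 5 * l → l = 5 * k → k = l := by decide

theorem z8_five_five : ∀ l : ZMod 8, l = 5 * (5 * l) := by decide

theorem z8_moved : ∀ l k : ZMod 8, l = 5 * k → k = 5 * l := by decide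

theorem z8_moved' : ∀ l : ZMod 8, l ≠ 5 * l → (5 * l : ZMod 8) ≠ 5 * (5 * l) := by decide

namespace Data

variable {G : Type*} [Group G] [Fintype G] (D : Data G)

/-- Multiplicities in the induced characters. -/
noncomputable def mult (χ : IrrCharacter G) (l : ZMod 8) : ℕ :=
  (classInner_char_nat (irr_isCharacter χ) (D.isCharacter_I l)).choose

theorem mult_spec (χ : IrrCharacter G) (l : ZMod 8) :
    classInner (χ : G → ℂ) (D.I l) = (D.mult χ l : ℂ) :=
  (classInner_char_nat (irr_isCharacter χ) (D.isCharacter_I l)).choose_spec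

theorem mult_spec' (χ : IrrCharacter G) (l : ZMod 8) :
    classInner (D.I l) (χ : G → ℂ) = (D.mult χ l : ℂ) := by
  rw [classInner_conj_symm, D.mult_spec, Complex.conj_natCast]

theorem sum_mult_mult (l k : ZMod 8) :
    ∑ χ : IrrCharacter G, D.mult χ l * D.mult χ k =
      (if l = k then 1 else 0) + (if l = 5 * k then 1 else 0) := by
  have h := D.inner_I l k
  rw [classInner_eq_sum_mul (D.isClassFunction_I k)] at h
  simp only [D.mult_spec', Complex.conj_natCast] at h
  split_ifs at h ⊢ <;> exact_mod_cast h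

theorem sum_mult_degree (l : ZMod 8) (d : IrrCharacter G → ℕ)
    (hd : ∀ χ : IrrCharacter G, (χ : G → ℂ) 1 = d χ) : ∑ χ, D.mult χ l * d χ = 28 := by
  have h := congrFun (classFunction_eq_sum (D.isClassFunction_I l)) 1
  simp only [Finset.sum_apply, Pi.smul_apply, smul_eq_mul, D.I_one, D.mult_spec', hd] at h
  exact_mod_cast h.symm

theorem sum_mult (χ : IrrCharacter G) :
    ((∑ l, D.mult χ l : ℕ) : ℂ) = classInner (fun h : H3 => (χ : G → ℂ) (D.ι h)) (fun _ => 1) := by
  classical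
  haveI : Fintype D.B := Fintype.ofFinite _
  have hb : ∀ b : BB, ∑ l : ZMod 8, conj (lam l b) = if b.right = 1 then (8 : ℂ) else 0 := by
    intro b
    simp only [lam_apply, conj_stdAddChar, ← mul_neg]
    rw [AddChar.sum_mulShift (-b.right.toAdd) (ZMod.isPrimitive_stdAddChar 8)]
    have : (-b.right.toAdd = 0) ↔ b.right = 1 := by simp
    simp only [this, ZMod.card]
    split_ifs <;> simp
  push_cast
  simp only [← D.mult_spec, Data.I, CfsgLib.Induction.classInner_indFun_right D.B _ (irr_isClassFunction χ)]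
  simp only [classInner, D.card_B, H3.card_eq, map_one, mul_one, ← Finset.mul_sum]
  rw [Finset.sum_comm]
  simp only [← Finset.mul_sum]
  rw [← Fintype.sum_equiv D.eB.toEquiv
      (fun b : BB => (χ : G → ℂ) (D.Φ b) * ∑ l, conj (lam l b)) _ (fun b => by
        simp only [MulEquiv.toEquiv_eq_coe, EquivLike.coe_coe, θ_eB, eB_coe]),
    Fintype.sum_equiv bbEquiv (fun b : BB => (χ : G → ℂ) (D.Φ b) * ∑ l, conj (lam l b))
      (fun p => if p.2 = 1 then (χ : G → ℂ) (D.Φ ⟨p.1, p.2⟩) * 8 else 0) (fun b => by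
        obtain ⟨h, k⟩ := b
        show _ = if k = 1 then _ else _
        rw [hb]
        by_cases hk : k = 1
        · rw [if_pos hk, if_pos hk]; rfl
        · rw [if_neg hk, if_neg hk, mul_zero]),
    Fintype.sum_prod_type]
  simp only [Finset.sum_ite_eq', Finset.mem_univ, if_true, ← Finset.sum_mul, Φ_apply, toAdd_one,
    ZMod.val_zero, pow_zero, mul_one]
  push_cast; ring

/-- The degree data of an irreducible character. -/
theorem degree_data (χ : IrrCharacter G) :
    ∃ d : ℕ, (χ : G → ℂ) 1 = d ∧ 0 < d ∧ d ∣ 6048 ∧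
      ((χ : G → ℂ) = (fun _ => 1) ∨
        ∃ y x : ℕ, 1 ≤ x ∧ d = (∑ l, D.mult χ l) + 8 * y + 6 * x) := by
  obtain ⟨d, hd, hpos, hdvd⟩ := irr_degree_dvd_card χ
  refine ⟨d, hd, hpos, D.card ▸ hdvd, ?_⟩
  obtain ⟨m, y, x, hm, hsum, hx⟩ := D.degree_shape (irr_isCharacter χ)
  rcases Nat.eq_zero_or_pos x with h | h
  · exact Or.inl (D.eq_one_of_z χ (hx h))
  · refine Or.inr ⟨y, x, h, ?_⟩
    rw [← D.sum_mult χ, Nat.cast_inj] at hm
    rw [hm]
    exact_mod_cast hd.symm.trans hsum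

theorem mult_principal (χ : IrrCharacter G) (h : (χ : G → ℂ) = fun _ => 1) :
    D.mult χ 0 = 1 ∧ ∑ l, D.mult χ l = 1 := by
  haveI : Fintype D.B := Fintype.ofFinite _
  refine ⟨?_, ?_⟩
  · have h0 : ((D.mult χ 0 : ℕ) : ℂ) = 1 := by
      rw [← D.mult_spec, Data.I, CfsgLib.Induction.classInner_indFun_right D.B _ (irr_isClassFunction χ), h]
      have : ∀ b : D.B, D.θ 0 b = 1 := fun b => by simp [θ, lam_apply]
      simp [classInner, this, ← Nat.card_eq_fintype_card]
    exact_mod_cast h0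
  · have h1 : ((∑ l, D.mult χ l : ℕ) : ℂ) = 1 := by
      rw [D.sum_mult, h]
      simp [classInner, ← Nat.card_eq_fintype_card]
    exact_mod_cast h1

theorem mult_eq_zero {χ : IrrCharacter G} {l k : ZMod 8} (hχ : D.mult χ l ≠ 0) (h1 : l ≠ k)
    (h2 : l ≠ 5 * k) : D.mult χ k = 0 := by
  have h := D.sum_mult_mult l k
  rw [if_neg h1, if_neg h2, add_zero, Finset.sum_eq_zero_iff] at h
  simpa [hχ] using h χ (Finset.mem_univ _)

theorem mult_le_one (χ : IrrCharacter G) (l : ZMod 8) : D.mult χ l ≤ 1 := by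
  have h := Finset.single_le_sum (fun ξ _ => Nat.zero_le (D.mult ξ l * D.mult ξ l)) (Finset.mem_univ χ)
  rw [D.sum_mult_mult, if_pos rfl] at h
  nlinarith [show (if l = 5 * l then 1 else 0 : ℕ) ≤ 1 by split_ifs <;> norm_num]

theorem sum_mult_self (l : ZMod 8) :
    ∑ χ : IrrCharacter G, D.mult χ l = 1 + (if l = 5 * l then 1 else 0) := by
  have h := D.sum_mult_mult l l
  rw [if_pos rfl] at h
  rw [← h]
  refine Finset.sum_congr rfl fun χ _ => ?_
  have := D.mult_le_one χ l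
  interval_cases D.mult χ l <;> rfl

theorem support_fixed {l : ZMod 8} (hl : l = 5 * l) :
    ∃ a b : IrrCharacter G, a ≠ b ∧ D.mult a l = 1 ∧ D.mult b l = 1 ∧
      ∀ f : IrrCharacter G → ℕ, ∑ χ, D.mult χ l * f χ = f a + f b := by
  classical
  have hs := D.sum_mult_self l
  rw [if_pos hl] at hs
  have hcard : (Finset.univ.filter fun χ => D.mult χ l = 1).card = 2 := by
    rw [Finset.card_filter]
    refine Eq.trans ?_ hs
    refine Finset.sum_congr rfl fun χ _ => ?_
    have := D.mult_le_one χ l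
    interval_cases D.mult χ l <;> rfl
  obtain ⟨a, b, hab, he⟩ := Finset.card_eq_two.1 hcard
  have hmem : ∀ χ, D.mult χ l = 1 ↔ χ = a ∨ χ = b := fun χ => by
    have := Finset.ext_iff.1 he χ
    simpa using this
  refine ⟨a, b, hab, (hmem a).2 (Or.inl rfl), (hmem b).2 (Or.inr rfl), fun f => ?_⟩
  rw [← Finset.sum_subset (Finset.subset_univ ({a, b} : Finset (IrrCharacter G))) (fun χ _ hχ => by
    have := D.mult_le_one χ l
    have h1 : D.mult χ l ≠ 1 := fun h => hχ (by simpa using (hmem χ).1 h)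
    rw [show D.mult χ l = 0 by omega, zero_mul]), Finset.sum_pair hab,
    (hmem a).2 (Or.inl rfl), (hmem b).2 (Or.inr rfl), one_mul, one_mul]

theorem support_moved {l : ZMod 8} (hl : l ≠ 5 * l) :
    ∃ a : IrrCharacter G, D.mult a l = 1 ∧ D.mult a (5 * l) = 1 ∧
      ∀ f : IrrCharacter G → ℕ, ∑ χ, D.mult χ l * f χ = f a := by
  classical
  have hs := D.sum_mult_self l
  rw [if_neg hl, add_zero] at hs
  obtain ⟨a, -, ha⟩ := Finset.exists_ne_zero_of_sum_ne_zero (by rw [hs]; exact one_ne_zero)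
  have ha1 : D.mult a l = 1 := by have := D.mult_le_one a l; omega
  have hz : ∀ χ, χ ≠ a → D.mult χ l = 0 := fun χ hχ => by
    have h : D.mult a l + D.mult χ l ≤ ∑ ξ, D.mult ξ l := by
      rw [← Finset.sum_pair hχ.symm (f := fun ξ => D.mult ξ l)]
      exact Finset.sum_le_sum_of_subset (Finset.subset_univ _)
    omega
  have hfun : ∀ f : IrrCharacter G → ℕ, ∑ χ, D.mult χ l * f χ = f a := fun f => by
    rw [Fintype.sum_eq_single a fun χ hχ => by rw [hz χ hχ, zero_mul], ha1, one_mul]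
  refine ⟨a, ha1, ?_, hfun⟩
  have h5 : l = 5 * (5 * l) := z8_five_five l
  have := hfun (fun χ => D.mult χ (5 * l))
  rw [D.sum_mult_mult l (5 * l), if_neg hl, zero_add, if_pos h5] at this
  exact this.symm

theorem weight (χ : IrrCharacter G) :
    ∑ l, (if l = 5 * l then 2 else 1) * D.mult χ l = if ∑ l, D.mult χ l = 0 then 0 else 2 := by
  classical
  by_cases h0 : ∑ l, D.mult χ l = 0
  · rw [if_pos h0]
    exact Finset.sum_eq_zero fun l _ => by rw [Finset.sum_eq_zero_iff.1 h0 l (Finset.mem_univ _), mul_zero]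
  rw [if_neg h0]
  obtain ⟨l, -, hl⟩ := Finset.exists_ne_zero_of_sum_ne_zero h0
  have hl1 : D.mult χ l = 1 := by have := D.mult_le_one χ l; omega
  by_cases hf : l = 5 * l
  · rw [Fintype.sum_eq_single l fun k hk => ?_]
    · rw [if_pos hf, hl1]
    · rw [D.mult_eq_zero hl hk.symm ?_, mul_zero]
      exact fun hlk => hk (z8_fixed l k hf hlk)
  · obtain ⟨a, ha1, ha5, hfun⟩ := D.support_moved hf
    have hχa : χ = a := by
      by_contra hne
      have := hfun (fun ξ => if ξ = χ then 1 else 0)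
      simp [Ne.symm hne, hl1] at this
    subst hχa
    have h5ne : (5 * l : ZMod 8) ≠ l := Ne.symm hf
    have hf5 : (5 * l : ZMod 8) ≠ 5 * (5 * l) := z8_moved' l hf
    rw [Fintype.sum_eq_add l (5 * l) h5ne.symm fun k hk => ?_]
    · rw [if_neg hf, if_neg hf5, hl1, ha5]
    · rw [D.mult_eq_zero hl hk.1.symm ?_, mul_zero]
      exact fun hlk => hk.2 (z8_moved l k hlk)

theorem two_square_cases {a b : ℕ} (hab : a + b = 28)
    (ha : a ∣ 6048 ∧ ∃ y x, 1 ≤ x ∧ a = 1 + 8 * y + 6 * x)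
    (hb : b ∣ 6048 ∧ ∃ y x, 1 ≤ x ∧ b = 1 + 8 * y + 6 * x) : (a = 7 ∧ b = 21) ∨ (a = 21 ∧ b = 7) := by
  obtain ⟨ha1, y, x, hx, hxa⟩ := ha
  obtain ⟨hb1, y', x', hx', hxb⟩ := hb
  have h1 : a ≤ 28 := by omega
  interval_cases a <;> first | omega | (norm_num at ha1; done)

include D in
/-- The degrees needed for the degree graph. -/
theorem degrees :
    (∃ χ : IrrCharacter G, ∃ d : ℕ, (χ : G → ℂ) 1 = d ∧ 6 ∣ d) ∧
    (∃ χ : IrrCharacter G, ∃ d : ℕ, (χ : G → ℂ) 1 = d ∧ 14 ∣ d) ∧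
    (∃ χ : IrrCharacter G, ∃ d : ℕ, (χ : G → ℂ) 1 = d ∧ 21 ∣ d) := by
  classical
  choose d hd hpos hdvd hcase using D.degree_data
  have hfix : ∀ l : ZMod 8, l = 5 * l → l ≠ 0 →
      ∑ χ, D.mult χ l * d χ ^ 2 = 490 ∧ ∃ χ, d χ = 21 := by
    intro l hl hl0
    obtain ⟨a, b, hab, ha, hb, hf⟩ := D.support_fixed hl
    have hm : ∀ χ, D.mult χ l = 1 → ∑ k, D.mult χ k = 1 ∧ (χ : G → ℂ) ≠ fun _ => 1 := by
      intro χ hχ
      have h1 : ∑ k, D.mult χ k = 1 := by
        rw [Fintype.sum_eq_single l fun k hk => D.mult_eq_zero (l := l) (by omega) hk.symm ?_, hχ]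
        exact fun hlk => hk (z8_fixed l k hl hlk)
      refine ⟨h1, fun h => ?_⟩
      have h0 := (D.mult_principal χ h).1
      rw [D.mult_eq_zero (k := 0) (by omega : D.mult χ l ≠ 0) hl0 (by simpa using hl0)] at h0
      exact zero_ne_one h0
    have hs : ∀ χ, D.mult χ l = 1 → d χ ∣ 6048 ∧ ∃ y x, 1 ≤ x ∧ d χ = 1 + 8 * y + 6 * x := fun χ hχ => by
      obtain ⟨h1, h2⟩ := hm χ hχ
      obtain ⟨y, x, hx, he⟩ := (hcase χ).resolve_left h2
      exact ⟨hdvd χ, y, x, hx, h1 ▸ he⟩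
    have hsum := D.sum_mult_degree l d hd
    rw [hf] at hsum
    rw [hf]
    rcases two_square_cases hsum (hs a ha) (hs b hb) with ⟨h1, h2⟩ | ⟨h1, h2⟩
    · exact ⟨by rw [h1, h2]; rfl, b, h2⟩
    · exact ⟨by rw [h1, h2]; rfl, a, h1⟩
  have hmov : ∀ l : ZMod 8, l ≠ 5 * l → ∑ χ, D.mult χ l * d χ ^ 2 = 784 ∧ ∃ χ, d χ = 28 := by
    intro l hl
    obtain ⟨a, -, -, hf⟩ := D.support_moved hl
    have hsum := D.sum_mult_degree l d hd
    rw [hf] at hsum
    exact ⟨by rw [hf, hsum]; rfl, a, hsum⟩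
  have hzero : ∑ χ, D.mult χ 0 * d χ ^ 2 = 730 := by
    obtain ⟨a, b, hab, ha, hb, hf⟩ := D.support_fixed (l := 0) (by decide)
    let one : IrrCharacter G := ⟨fun _ => 1, isIrrCharacter_one⟩
    have hone := (D.mult_principal one rfl).1
    have hd1 : d one = 1 := Nat.cast_injective (R := ℂ) (by rw [← hd one, Nat.cast_one])
    have hsum := D.sum_mult_degree 0 d hd
    rw [hf] at hsum
    have hmem := hf (fun ξ => if ξ = one then 1 else 0)
    simp [hone] at hmem
    rw [hf]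
    by_cases e : a = one
    · subst e
      rw [hd1, show d b = 27 by omega]; rfl
    · have e' : b = one := by by_contra e'; simp [e, e'] at hmem
      subst e'
      rw [hd1, show d a = 27 by omega]; rfl
  obtain ⟨-, χ28, h28⟩ := hmov 1 (by decide)
  obtain ⟨-, χ21, h21⟩ := hfix 2 (by decide) (by decide)
  refine ⟨?_, ⟨χ28, 28, by rw [hd, h28], by norm_num⟩, ⟨χ21, 21, by rw [hd, h21], by norm_num⟩⟩
  by_contra hno
  push Not at hno
  have hsq : ∑ χ, d χ ^ 2 = 6048 := by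
    have h := sum_sq_degrees (G := G)
    simp only [hd, D.card] at h
    exact_mod_cast h
  have hL : ∑ χ, (∑ l, (if l = 5 * l then 2 else 1) * D.mult χ l) * d χ ^ 2 = 7536 := by
    simp_rw [Finset.sum_mul, mul_assoc]
    rw [Finset.sum_comm]
    simp_rw [← Finset.mul_sum]
    have he : ∀ f : ZMod 8 → ℕ, ∑ l, f l = f 0 + f 1 + f 2 + f 3 + f 4 + f 5 + f 6 + f 7 :=
      fun f => Fin.sum_univ_eight f
    rw [he, hzero, (hmov 1 (by decide)).1, (hfix 2 (by decide) (by decide)).1,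
      (hmov 3 (by decide)).1, (hfix 4 (by decide) (by decide)).1, (hmov 5 (by decide)).1,
      (hfix 6 (by decide) (by decide)).1, (hmov 7 (by decide)).1]
    decide
  simp_rw [D.weight] at hL
  have hrest : ∑ χ ∈ Finset.univ.filter (fun χ => ∑ l, D.mult χ l = 0), d χ ^ 2 = 2280 := by
    have h1 := Finset.sum_filter_add_sum_filter_not Finset.univ
      (fun χ => ∑ l, D.mult χ l = 0) (fun χ => d χ ^ 2)
    have h2 : ∑ χ, (if ∑ l, D.mult χ l = 0 then 0 else 2) * d χ ^ 2 =
        2 * ∑ χ ∈ Finset.univ.filter (fun χ => ¬ ∑ l, D.mult χ l = 0), d χ ^ 2 := by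
      rw [Finset.mul_sum, Finset.sum_filter]
      exact Finset.sum_congr rfl fun χ _ => by split_ifs <;> simp only [zero_mul, not_true, not_false_eq_true] at * 
    omega
  set S := Finset.univ.filter (fun χ : IrrCharacter G => ∑ l, D.mult χ l = 0) with hS
  have hd6 : ∀ χ ∈ S, d χ ^ 2 = 196 ∨ d χ ^ 2 = 784 ∨ d χ ^ 2 = 1024 := by
    intro χ hχ
    have hm : ∑ l, D.mult χ l = 0 := (Finset.mem_filter.1 hχ).2
    have hne : (χ : G → ℂ) ≠ fun _ => 1 := fun h => by
      rw [(D.mult_principal χ h).2] at hm; exact one_ne_zero hm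
    obtain ⟨y, x, hx, he⟩ := (hcase χ).resolve_left hne
    rw [hm, zero_add] at he
    have hle : d χ ^ 2 ≤ 2280 := by
      rw [← hrest]; exact Finset.single_le_sum (f := fun χ => d χ ^ 2) (fun ξ _ => Nat.zero_le _) hχ
    have h47 : d χ ≤ 47 := by nlinarith
    have h6 := hno χ (d χ) (hd χ)
    have hdv := hdvd χ
    generalize d χ = n at *
    interval_cases n <;> first | omega | (norm_num at hdv; done) | norm_num
  have hAB : ∃ A B, ∑ χ ∈ S, d χ ^ 2 = 196 * A + 1024 * B := by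
    refine Finset.sum_induction (fun χ => d χ ^ 2) (fun n => ∃ A B, n = 196 * A + 1024 * B) ?_ ⟨0, 0, rfl⟩ ?_
    · rintro _ _ ⟨A, B, rfl⟩ ⟨A', B', rfl⟩
      exact ⟨A + A', B + B', by ring⟩
    · intro χ hχ
      rcases hd6 χ hχ with h | h | h
      · exact ⟨1, 0, by simp [h]⟩
      · exact ⟨4, 0, by simp [h]⟩
      · exact ⟨0, 1, by simp [h]⟩
  obtain ⟨A, B, hAB⟩ := hAB
  rw [hrest] at hAB
  omega

end Data

end CfsgLib.Recognition.PSU33
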