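import Mathlib
import Cfsg.Prelude.Def_Characters
import Cfsg.Agent.Lib.Characters.Induction
import Cfsg.Agent.Lib.Characters.BrauerPerm


/-!
A solvable group of order 6048 with an irreducible character of degree 42.
-/

open scoped ComplexConjugate
open CfsgLib.Characters Cfsg

namespace CfsgLib.Recognition.PSU33

section General

variable {A Q : Type} [CommGroup A] [Group Q] [Fintype A] [Fintype Q]

/-- A linear character of the normal abelian factor with trivial stabiliser induces irreducibly. -/
theorem exists_irr_semidirect (act : Q →* MulAut A) (f : A →* ℂˣ)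
    (hf : ∀ q, q ≠ 1 → ∃ a, f (act q a) ≠ f a) :
    ∃ χ : IrrCharacter (A ⋊[act] Q), (χ : A ⋊[act] Q → ℂ) 1 = Nat.card Q := by
  classical
  letI : Fintype (A ⋊[act] Q) := Fintype.ofEquiv _ (SemidirectProduct.equivProd (φ := act)).symm
  let N : Subgroup (A ⋊[act] Q) := (SemidirectProduct.rightHom : (A ⋊[act] Q) →* Q).ker
  haveI : N.Normal := inferInstance
  haveI : Fintype N := Fintype.ofFinite _
  let e : A ≃* N :=
    { toFun := fun a => ⟨SemidirectProduct.inl a, SemidirectProduct.rightHom_inl a⟩
      invFun := fun n => n.1.left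
      left_inv := fun a => rfl
      right_inv := fun n => Subtype.ext (SemidirectProduct.ext rfl (Eq.symm n.2))
      map_mul' := fun a b => Subtype.ext (map_mul SemidirectProduct.inl a b) }
  let θ : N →* ℂ := (Units.coeHom ℂ).comp (f.comp e.symm.toMonoidHom)
  have hθe : ∀ a, θ (e a) = (f a : ℂ) := fun a => rfl
  have hθ : IsCharacter N θ := CfsgLib.Induction.isCharacter_monoidHom θ
  have hcardN : Nat.card N = Nat.card A := (Nat.card_congr e.toEquiv).symm
  have hA : (Nat.card A : ℂ) ≠ 0 := by exact_mod_cast Nat.card_pos.ne'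
  have hval : ∀ a : A, indFun N θ (e a : (A ⋊[act] Q)) = ∑ q : Q, (f (act q a) : ℂ) := by
    intro a
    rw [CfsgLib.Induction.indFun_normal_apply, hcardN,
      Fintype.sum_equiv (SemidirectProduct.equivProd (φ := act))
        (fun x : (A ⋊[act] Q) => θ ⟨x * (e a : N) * x⁻¹, Subgroup.Normal.conj_mem inferInstance _ (e a).2 x⟩)
        (fun p => (f (act p.2 a) : ℂ)) (fun x => ?_),
      Fintype.sum_prod_type]
    · simp only
      rw [Finset.sum_const, Finset.card_univ, nsmul_eq_mul, ← Nat.card_eq_fintype_card, ← mul_assoc,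
        inv_mul_cancel₀ hA, one_mul]
    · show (f ((x * SemidirectProduct.inl a * x⁻¹ : (A ⋊[act] Q))).left : ℂ) = (f (act x.right a) : ℂ)
      refine congrArg (fun z => ((f z : ℂˣ) : ℂ)) ?_
      simp only [SemidirectProduct.mul_left, SemidirectProduct.mul_right, SemidirectProduct.inv_left,
        SemidirectProduct.left_inl, SemidirectProduct.right_inl, mul_one]
      rw [← MulAut.mul_apply, ← map_mul, mul_inv_cancel, map_one, MulAut.one_apply]
      rw [mul_comm x.left, mul_assoc, mul_inv_cancel, mul_one]
  have hnorm : classInner (indFun N θ) (indFun N θ) = 1 := by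
    rw [CfsgLib.Induction.classInner_indFun N _ (CfsgLib.Induction.isClassFunction_indFun N _),
      classInner, hcardN, ← Fintype.sum_equiv e.toEquiv
        (fun a : A => (f a : ℂ) * conj (∑ q : Q, (f (act q a) : ℂ))) _ (fun a => by
          rw [← hθe, ← hval]; rfl)]
    simp only [map_sum]
    rw [Finset.sum_congr rfl fun a _ => Finset.mul_sum _ _ _, Finset.sum_comm, Finset.mul_sum, Fintype.sum_eq_single 1]
    · have := classInner_irr_self (isIrrCharacter_of_hom f)
      simpa [classInner] using this
    · intro q hq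
      obtain ⟨a, ha⟩ := hf q hq
      have := classInner_irr_ne (isIrrCharacter_of_hom f)
        (isIrrCharacter_of_hom (f.comp (act q).toMonoidHom)) (fun h => ha (Units.ext (congrFun h a).symm))
      simpa [classInner] using this
  refine ⟨⟨_, CfsgLib.BrauerPerm.isIrrCharacter_of_norm_one (CfsgLib.Induction.isCharacter_indFun N hθ) hnorm⟩, ?_⟩
  show indFun N θ 1 = _
  rw [show (1 : (A ⋊[act] Q)) = ((e 1 : N) : (A ⋊[act] Q)) by simp, hval]
  simp

end General

/-- The elementary abelian group of order 8. -/
abbrev V8 := ZMod 2 × ZMod 2 × ZMod 2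

/-- The abelian group of order 144. -/
abbrev AV := V8 × (ZMod 3 × ZMod 3) × ZMod 2

/-- Multiplication by a root of `x³ + x + 1`. -/
def step7 : V8 → V8 := fun (a, b, c) => (c, a + c, b)

/-- The action of the cyclic group of order 7. -/
def act7 (k : Multiplicative (ZMod 7)) (v : V8) : V8 := step7^[k.toAdd.val] v

/-- The action of the dihedral group of order 6. -/
def act6 : DihedralGroup 3 → ZMod 3 × ZMod 3 → ZMod 3 × ZMod 3
  | .r i, (b, c) => (b, c + i * b)
  | .sr i, (b, c) => (b, -(c + i * b))

theorem act7_mul : ∀ (i j : Multiplicative (ZMod 7)) (v : V8), act7 (i * j) v = act7 i (act7 j v) := by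
  decide +kernel

theorem act7_add : ∀ (i : Multiplicative (ZMod 7)) (v w : V8), act7 i (v + w) = act7 i v + act7 i w := by
  decide +kernel

theorem act6_mul : ∀ (i j : DihedralGroup 3) (v : ZMod 3 × ZMod 3), act6 (i * j) v = act6 i (act6 j v) := by
  decide +kernel

theorem act6_add : ∀ (i : DihedralGroup 3) (v w : ZMod 3 × ZMod 3), act6 i (v + w) = act6 i v + act6 i w := by
  decide +kernel

/-- The complement of order 42. -/
abbrev QS := Multiplicative (ZMod 7) × DihedralGroup 3

/-- The whole action. -/
def actV (q : QS) (v : AV) : AV := (act7 q.1 v.1, act6 q.2 v.2.1, v.2.2)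

theorem actV_mul (p q : QS) (v : AV) : actV (p * q) v = actV p (actV q v) := by
  simp [actV, act7_mul, act6_mul]

theorem actV_add (q : QS) (v w : AV) : actV q (v + w) = actV q v + actV q w := by
  simp [actV, act7_add, act6_add]

theorem act6_one : ∀ v : ZMod 3 × ZMod 3, act6 1 v = v := by decide +kernel

theorem actV_one (v : AV) : actV 1 v = v := by
  simp [actV, act6_one, act7]

/-- The action by automorphisms. -/
def actA : QS →* MulAut (Multiplicative AV) where
  toFun q :=
    { toFun := fun v => Multiplicative.ofAdd (actV q v.toAdd)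
      invFun := fun v => Multiplicative.ofAdd (actV q⁻¹ v.toAdd)
      left_inv := fun v => by simp [← actV_mul, actV_one]
      right_inv := fun v => by simp [← actV_mul, actV_one]
      map_mul' := fun v w => by simp [actV_add] }
  map_one' := MulEquiv.ext fun v => by simp [actV_one]
  map_mul' p q := MulEquiv.ext fun v => by simp [actV_mul]

/-- The solvable group. -/
abbrev HS := Multiplicative AV ⋊[actA] QS

/-- A linear character in a regular orbit. -/
noncomputable def fS : Multiplicative AV →* ℂˣ :=
  MonoidHom.toHomUnits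
    { toFun := fun v => (ZMod.stdAddChar v.toAdd.1.1 : ℂ) * ZMod.stdAddChar v.toAdd.2.1.2
      map_one' := by simp
      map_mul' := fun v w => by simp [AddChar.map_add_eq_mul]; ring }

theorem regular_seven : ∀ i : Multiplicative (ZMod 7), i ≠ 1 → ∃ v : V8, (act7 i v).1 ≠ v.1 := by
  decide +kernel

theorem regular_six : ∀ i : DihedralGroup 3, i ≠ 1 → ∃ v : ZMod 3 × ZMod 3, (act6 i v).2 ≠ v.2 := by
  decide +kernel

theorem act_zero_left : ∀ i : Multiplicative (ZMod 7), act7 i 0 = 0 := by decide +kernel

theorem act_zero_right : ∀ i : DihedralGroup 3, act6 i 0 = 0 := by decide +kernel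

theorem fS_regular (q : QS) (hq : q ≠ 1) : ∃ a, fS (actA q a) ≠ fS a := by
  by_cases h : q.1 = 1
  · have h2 : q.2 ≠ 1 := fun h2 => hq (Prod.ext h h2)
    obtain ⟨v, hv⟩ := regular_six q.2 h2
    refine ⟨Multiplicative.ofAdd ((0 : V8), v, (0 : ZMod 2)), fun e => hv ?_⟩
    have e' := congrArg Units.val e
    simp [fS, actA, actV, act_zero_left] at e'
    exact ZMod.injective_stdAddChar e'
  · obtain ⟨v, hv⟩ := regular_seven q.1 h
    refine ⟨Multiplicative.ofAdd (v, (0 : ZMod 3 × ZMod 3), (0 : ZMod 2)), fun e => hv ?_⟩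
    have e' := congrArg Units.val e
    simp [fS, actA, actV, act_zero_right] at e'
    exact ZMod.injective_stdAddChar e'

noncomputable instance : Fintype HS :=
  Fintype.ofEquiv _ (SemidirectProduct.equivProd (φ := actA)).symm

theorem card_HS : Nat.card HS = 6048 := by
  rw [SemidirectProduct.card]
  simp [DihedralGroup.card]

theorem exists_irr_HS : ∃ χ : IrrCharacter HS, (χ : HS → ℂ) 1 = 42 := by
  obtain ⟨χ, hχ⟩ := exists_irr_semidirect actA fS fS_regular
  exact ⟨χ, by rw [hχ]; norm_num [DihedralGroup.card]⟩

theorem isSolvable_HS : Group.IsSolvable HS := by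
  haveI : Group.IsSolvable (DihedralGroup 3) := by
    refine Group.isSolvable_of_ker_le_range
      (MonoidHom.mk' (fun i : Multiplicative (ZMod 3) => DihedralGroup.r i.toAdd) (fun i j => by simp))
      (MonoidHom.mk' (fun x : DihedralGroup 3 => Multiplicative.ofAdd (match x with | .r _ => (0 : ZMod 2) | .sr _ => 1))
        (by decide +kernel)) ?_
    intro x hx
    rw [MonoidHom.mem_ker] at hx
    rcases x with i | i
    · exact ⟨Multiplicative.ofAdd i, rfl⟩
    · exact absurd hx (by decide +revert)
  haveI : Group.IsSolvable QS := inferInstance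
  exact Group.isSolvable_of_ker_le_range (SemidirectProduct.inl : Multiplicative AV →* HS)
    SemidirectProduct.rightHom SemidirectProduct.range_inl_eq_ker_rightHom.ge

end CfsgLib.Recognition.PSU33
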